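import Cfsg.Agent.H463.Tor.TorM
import Cfsg.Agent.H71.Tor.JSmall
import Cfsg.Agent.NotCT.Orders

/-!
# S3235: the exceptional cases `M₁₂` and `J₁`, `p = 5` (helper33)
-/

set_option autoImplicit false

namespace Cfsg.Agent.H33.Tor

open Subgroup Cfsg
open Cfsg.Agent.NotCT
open Cfsg.Agent.H729.PairMathieu Cfsg.Agent.H729.Count Cfsg.Agent.H463.TorM

universe u

/-- the order excludes `M₁₂`, `J₁`, `J₂` -/
theorem not_three {G : Type u} [Group G] {N : ℕ} (hN : Nat.card G = N) (h1 : N ≠ 95040) (h2 : N ≠ 175560)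
    (h3 : N ≠ 604800) : ¬ (Spor.IsoM12 G ∨ Spor.IsoJ1 G ∨ Spor.IsoJ2 G) := by
  rintro (h | h | h)
  · exact h1 (hN.symm.trans (Orders.m12 h))
  · exact h2 (hN.symm.trans (Orders.j1 h))
  · exact h3 (hN.symm.trans (Orders.j2 h))

/-- `M₁₂`, `p = 5` -/
theorem iv_m12 {x : Spor.M12} (hx : orderOf x = 5) : Iv 5 x := by
  have h1 := H729.Count.card_cent_le inc12 inc12_injective preX (x := X) rfl st_X
  rw [lenX, ← H729.PairBase.card_cent_of_one (by norm_num) (not_sq_dvd_of_eq card_M12 (by norm_num)) orderX hx] at h1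
  exact Iv.of_le (c := 10) (b := 240) h1 (fun z hz => cent_m12_two hz) card_M12 1 (by norm_num)
    (by norm_num)

/-- `J₁`, `p = 5` -/
theorem iv_j1 {x : Spor.J1} (hx : orderOf x = 5) : Iv 5 x :=
  Iv.of_le (b := 120) (c := 30) (N := 175560)
    (H71.Tor.card_cent_j1 (fun _ hR => (H305.SepJ1.cn5 hR).1) hx).le
    (fun _ hz => (H305.SepJ1.card_cent_two hz).le) H71.Tor.card_j1 1 (by norm_num) (by norm_num)

theorem card_cent_equiv {G : Type*} {H : Type*} [Group G] [Group H] (e : G ≃* H) (x : G) :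
    Nat.card (centralizer ({e x} : Set H)) = Nat.card (centralizer ({x} : Set G)) := by
  symm
  refine Nat.card_congr (Equiv.subtypeEquiv e.toEquiv fun y => ?_)
  show y ∈ centralizer ({x} : Set G) ↔ e y ∈ centralizer ({e x} : Set H)
  rw [mem_centralizer_singleton_iff, mem_centralizer_singleton_iff, ← map_mul, ← map_mul, e.injective.eq_iff]

theorem Iv.of_equiv {p : ℕ} {G : Type*} {H : Type*} [Group G] [Group H] (e : G ≃* H) {x : G} (h : Iv p (e x)) :
    Iv p x := by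
  refine ⟨h.1, fun z hz => ?_⟩
  have h1 := h.2 (e z) (by rw [MulEquiv.orderOf_eq, hz])
  rwa [card_cent_equiv, card_cent_equiv, ← Nat.card_congr e.toEquiv] at h1

theorem iv_of_m12 {G : Type u} [Group G] (h : Spor.IsoM12 G) {x : G} (hx : orderOf x = 5) : Iv 5 x := by
  obtain ⟨e⟩ := h
  exact Iv.of_equiv e (iv_m12 (by rw [MulEquiv.orderOf_eq, hx]))

theorem iv_of_j1 {G : Type u} [Group G] (h : Spor.IsoJ1 G) {x : G} (hx : orderOf x = 5) : Iv 5 x := by
  obtain ⟨e⟩ := h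
  exact Iv.of_equiv e (iv_j1 (by rw [MulEquiv.orderOf_eq, hx]))

end Cfsg.Agent.H33.Tor
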